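import Groth.Agent.H20SS.Sections
import Groth.Agent.H12AlgSp.ActionGroupoid
import Mathlib.AlgebraicGeometry.Morphisms.FiniteType
import Mathlib.AlgebraicGeometry.AlgClosed.Basic
import Mathlib.RingTheory.Polynomial.Basic

/-!
Points of the total space of a line bundle; linear lifts evaluated at points.
-/

set_option autoImplicit false
set_option linter.style.haveILetI false
set_option linter.unusedSectionVars false
set_option backward.isDefEq.respectTransparency false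

universe u

open CategoryTheory CategoryTheory.Limits MonoidalCategory CartesianMonoidalCategory MonObj AlgebraicGeometry
  Opposite TopologicalSpace

namespace Groth.Agent.H20Lin

noncomputable section

variable {S : Scheme.{u}} {X V : Over S} {π : V ⟶ X} (A : GLinSh.LinAtlas π)

include A in
theorem exists_affine_chart (x : X.left) :
    ∃ (W : X.left.Opens) (U : X.left.Opens) (hWU : W ≤ U) (y : Γ(V.left, π.left ⁻¹ᵁ U)),
      IsAffineOpen W ∧ x ∈ W ∧ y ∈ A.chart U ∧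
        Function.Bijective (Polynomial.eval₂RingHom (π.left.app W).hom (GLinSh.res π hWU y)) := by
  obtain ⟨U, hxU, y, hy⟩ := A.cover x
  obtain ⟨W, hW, hxW, hWU⟩ := exists_isAffineOpen_mem_and_subset (x := x) (U := U) hxU
  exact ⟨W, U, hWU, y, hW, hxW, hy, A.coord U y hy W hW hWU⟩

include A in
theorem locallyOfFiniteType_proj : LocallyOfFiniteType π.left := by
  haveI := A.affine
  rw [HasRingHomProperty.iff_exists_appLE (P := @LocallyOfFiniteType)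
    (RingHom.finiteType_stableUnderComposition.stableUnderCompositionWithLocalizationAway
      RingHom.finiteType_holdsForLocalizationAway).left]
  intro p
  obtain ⟨W, U, hWU, y, hW, hxW, -, hbij⟩ := exists_affine_chart A (π.left.base p)
  refine ⟨⟨W, hW⟩, ⟨π.left ⁻¹ᵁ W, hW.preimage π.left⟩, hxW, le_rfl, ?_⟩
  have hC : (Polynomial.C : Γ(X.left, W) →+* Polynomial Γ(X.left, W)).FiniteType :=
    RingHom.finiteType_algebraMap.2 inferInstance
  have h2 := RingHom.finiteType_stableUnderComposition _ _ hC (RingHom.FiniteType.of_surjective _ hbij.2)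
  refine (congrArg RingHom.FiniteType ?_).mp h2
  ext c
  simp [Scheme.Hom.app_eq_appLE]

include A in
theorem isReduced_total [IsReduced X.left] : IsReduced V.left := by
  haveI := A.affine
  suffices ∀ p : V.left, _root_.IsReduced (V.left.presheaf.stalk p) from
    isReduced_of_isReduced_stalk V.left
  intro p
  obtain ⟨W, U, hWU, y, hW, hxW, -, hbij⟩ := exists_affine_chart A (π.left.base p)
  haveI : IsAffine (π.left ⁻¹ᵁ W).toScheme := hW.preimage π.left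
  let e := RingEquiv.ofBijective _ hbij
  haveI : _root_.IsReduced Γ(X.left, W) := inferInstance
  haveI : _root_.IsReduced (Polynomial Γ(X.left, W)) :=
    ⟨fun P hP => Polynomial.ext fun i => by
      rw [Polynomial.coeff_zero]
      exact (Polynomial.isNilpotent_iff.1 hP i).eq_zero⟩
  haveI : _root_.IsReduced Γ(V.left, π.left ⁻¹ᵁ W) :=
    isReduced_of_injective e.symm.toRingHom e.symm.injective
  haveI : _root_.IsReduced Γ((π.left ⁻¹ᵁ W).toScheme, ⊤) :=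
    isReduced_of_injective (π.left ⁻¹ᵁ W).topIso.commRingCatIsoToRingEquiv.toRingHom
      (π.left ⁻¹ᵁ W).topIso.commRingCatIsoToRingEquiv.injective
  haveI := isReduced_of_isAffine_isReduced (X := (π.left ⁻¹ᵁ W).toScheme)
  exact isReduced_of_injective _
    ((π.left ⁻¹ᵁ W).stalkIso ⟨p, hxW⟩).symm.commRingCatIsoToRingEquiv.injective

variable {T : Over S}

/-- Two points of the total space over the same point of the base with the same coordinate are equal. -/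
theorem point_ext [IsAffine T.left] [Subsingleton T.left] [Nonempty T.left] {U : X.left.Opens}
    {y : Γ(V.left, π.left ⁻¹ᵁ U)} (hy : y ∈ A.chart U) (p q : T ⟶ V) (hpq : p ≫ π = q ≫ π)
    (hp : ⊤ ≤ p.left ⁻¹ᵁ (π.left ⁻¹ᵁ U)) (hq : ⊤ ≤ q.left ⁻¹ᵁ (π.left ⁻¹ᵁ U))
    (h : p.left.appLE (π.left ⁻¹ᵁ U) ⊤ hp y = q.left.appLE (π.left ⁻¹ᵁ U) ⊤ hq y) : p = q := by
  haveI := A.affine
  obtain ⟨t⟩ := ‹Nonempty T.left›
  have hpt : π.left (p.left t) ∈ U := hp (show t ∈ (⊤ : T.left.Opens) from trivial)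
  obtain ⟨W, hW, hxW, hWU'⟩ := exists_isAffineOpen_mem_and_subset (x := π.left (p.left t)) (U := U) hpt
  have hWU : W ≤ U := hWU'
  have hpq' : p.left ≫ π.left = q.left ≫ π.left := congrArg (fun m : T ⟶ X => m.left) hpq
  have hp' : ⊤ ≤ p.left ⁻¹ᵁ (π.left ⁻¹ᵁ W) := fun s _ => Subsingleton.elim t s ▸ hxW
  have hq' : ⊤ ≤ q.left ⁻¹ᵁ (π.left ⁻¹ᵁ W) := fun s _ => by
    show (q.left ≫ π.left) s ∈ W
    rw [← hpq']
    exact hp' (show s ∈ (⊤ : T.left.Opens) from trivial)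
  have hV : IsAffineOpen (π.left ⁻¹ᵁ W) := hW.preimage π.left
  have key : p.left.appLE (π.left ⁻¹ᵁ W) ⊤ hp' = q.left.appLE (π.left ⁻¹ᵁ W) ⊤ hq' := by
    refine CommRingCat.hom_ext (RingHom.ext fun t => ?_)
    obtain ⟨P, rfl⟩ := (A.coord U y hy W hW hWU).2 t
    rw [← RingHom.comp_apply, ← RingHom.comp_apply]
    refine RingHom.congr_fun (Polynomial.ringHom_ext (fun c => ?_) ?_) P
    · simp only [RingHom.comp_apply, Polynomial.coe_eval₂RingHom, Polynomial.eval₂_C]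
      rw [Scheme.Hom.app_eq_appLE, H20SS.appLE_appLE, H20SS.appLE_appLE]
      exact H20SS.appLE_congr_hom hpq' _ c
    · simp only [RingHom.comp_apply, Polynomial.coe_eval₂RingHom, Polynomial.eval₂_X]
      unfold GLinSh.res
      rw [H20SS.appLE_res, H20SS.appLE_res]
      exact h
  haveI : IsIso (isAffineOpen_top T.left).fromSpec := by rw [IsAffineOpen.fromSpec_top]; infer_instance
  refine Over.OverMorphism.ext ((cancel_epi (isAffineOpen_top T.left).fromSpec).1 ?_)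
  rw [← IsAffineOpen.SpecMap_appLE_fromSpec p.left hV (isAffineOpen_top T.left) hp',
    ← IsAffineOpen.SpecMap_appLE_fromSpec q.left hV (isAffineOpen_top T.left) hq', key]

variable {G : Over S} [GrpObj G] (a : AlgGrp.Action G X) (Φ : AlgGrp.Action G V)

/-- A linear lift multiplies the coordinate of a point by a scalar depending only on its image. -/
theorem exists_coeff (hπ : Φ.act ≫ π = (G ◁ π) ≫ a.act) (hl : GLinSh.IsLinearLift a π Φ A.chart hπ)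
    {U U' : X.left.Opens} {y : Γ(V.left, π.left ⁻¹ᵁ U)} {y' : Γ(V.left, π.left ⁻¹ᵁ U')}
    (hy : y ∈ A.chart U) (hy' : y' ∈ A.chart U') (g : T ⟶ G) (x : T ⟶ X)
    (hx : ⊤ ≤ x.left ⁻¹ᵁ U) (hx' : ⊤ ≤ (lift g x ≫ a.act).left ⁻¹ᵁ U') :
    ∃ c : Γ(T.left, ⊤), ∀ (v : T ⟶ V), v ≫ π = x → ∀ (e : ⊤ ≤ v.left ⁻¹ᵁ (π.left ⁻¹ᵁ U))
      (e' : ⊤ ≤ (lift g v ≫ Φ.act).left ⁻¹ᵁ (π.left ⁻¹ᵁ U')),
      (lift g v ≫ Φ.act).left.appLE (π.left ⁻¹ᵁ U') ⊤ e' y' = c * v.left.appLE (π.left ⁻¹ᵁ U) ⊤ e y := by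
  obtain ⟨c, hc⟩ := hl U U' y y' hy hy'
  have hle : ⊤ ≤ (lift g x).left ⁻¹ᵁ (a.act.left ⁻¹ᵁ U' ⊓ (snd G X).left ⁻¹ᵁ U) := fun t ht => by
    refine ⟨hx' ht, ?_⟩
    show (lift g x ≫ snd G X).left t ∈ U
    rw [lift_snd]
    exact hx ht
  refine ⟨(lift g x).left.appLE _ ⊤ hle c, fun v hv e e' => ?_⟩
  have hq1 : lift g v ≫ (G ◁ π) = lift g x := by
    rw [lift_whiskerLeft, hv]
  have hO : ⊤ ≤ (lift g v).left ⁻¹ᵁ (GLinSh.liftOpen a π U U') := fun t ht => by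
    refine ⟨?_, ?_⟩
    · show (lift g v ≫ (G ◁ π) ≫ a.act).left t ∈ U'
      rw [← Category.assoc, hq1]
      exact hx' ht
    · show (lift g v ≫ (G ◁ π) ≫ snd G X).left t ∈ U
      rw [← Category.assoc, hq1, lift_snd]
      exact hx ht
  have h1 := congrArg ((lift g v).left.appLE _ ⊤ hO) hc
  rw [map_mul, H20SS.appLE_appLE, H20SS.appLE_appLE, H20SS.appLE_appLE] at h1
  refine Eq.trans ?_ (h1.trans (congrArg₂ (· * ·) ?_ ?_))
  · exact H20SS.appLE_congr_hom rfl _ _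
  · exact H20SS.appLE_congr_hom (congrArg (fun m : T ⟶ G ⊗ X => m.left) hq1) _ _
  · exact H20SS.appLE_congr_hom (congrArg (fun m : T ⟶ V => m.left) (lift_snd g v)) _ _

/-- The discrepancy of two lifts: `(g, v) ↦ Φ₂(g⁻¹, Φ₁(g, v))`. -/
def discr (Φ₁ Φ₂ : AlgGrp.Action G V) : G ⊗ V ⟶ V :=
  lift (fst G V)⁻¹ Φ₁.act ≫ Φ₂.act

theorem lift_discr (Φ₁ Φ₂ : AlgGrp.Action G V) (g : T ⟶ G) (v : T ⟶ V) :
    lift g v ≫ discr Φ₁ Φ₂ = lift g⁻¹ (lift g v ≫ Φ₁.act) ≫ Φ₂.act := by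
  rw [discr, comp_lift_assoc, GrpObj.comp_inv, lift_fst]

theorem lift_discr_proj (Φ₁ Φ₂ : AlgGrp.Action G V) (h₁ : Φ₁.act ≫ π = (G ◁ π) ≫ a.act)
    (h₂ : Φ₂.act ≫ π = (G ◁ π) ≫ a.act) (g : T ⟶ G) (v : T ⟶ V) :
    (lift g v ≫ discr Φ₁ Φ₂) ≫ π = v ≫ π := by
  rw [lift_discr, Category.assoc, h₂, lift_whiskerLeft_assoc, Category.assoc, h₁, lift_whiskerLeft_assoc,
    ← H12AlgSp.ActionGroupoid.act_mul, inv_mul_cancel, H12AlgSp.ActionGroupoid.act_one]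

theorem discr_discr (Φ₁ Φ₂ : AlgGrp.Action G V) (g : T ⟶ G) (v : T ⟶ V) :
    lift g (lift g v ≫ discr Φ₁ Φ₂) ≫ discr Φ₂ Φ₁ = v := by
  rw [lift_discr, lift_discr, ← H12AlgSp.ActionGroupoid.act_mul, mul_inv_cancel,
    H12AlgSp.ActionGroupoid.act_one, ← H12AlgSp.ActionGroupoid.act_mul, inv_mul_cancel,
    H12AlgSp.ActionGroupoid.act_one]

theorem discr_one (Φ₁ Φ₂ : AlgGrp.Action G V) (v : T ⟶ V) :
    lift (1 : T ⟶ G) v ≫ discr Φ₁ Φ₂ = v := by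
  rw [lift_discr, inv_one, H12AlgSp.ActionGroupoid.act_one, H12AlgSp.ActionGroupoid.act_one]

theorem appLE_congr_pt {Y : Over S} {p q : T ⟶ Y} (h : p = q) {O : Y.left.Opens} (hp : ⊤ ≤ p.left ⁻¹ᵁ O)
    (hq : ⊤ ≤ q.left ⁻¹ᵁ O) (b : Γ(Y.left, O)) : p.left.appLE O ⊤ hp b = q.left.appLE O ⊤ hq b := by
  subst h; rfl

include A in
/-- The discrepancy scales the fibre coordinate by a scalar independent of the point of the fibre. -/
theorem exists_scalar [Subsingleton T.left] [Nonempty T.left] (Φ₁ Φ₂ : AlgGrp.Action G V)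
    (h₁ : Φ₁.act ≫ π = (G ◁ π) ≫ a.act) (h₂ : Φ₂.act ≫ π = (G ◁ π) ≫ a.act)
    (hl₁ : GLinSh.IsLinearLift a π Φ₁ A.chart h₁) (hl₂ : GLinSh.IsLinearLift a π Φ₂ A.chart h₂)
    {U : X.left.Opens} {y : Γ(V.left, π.left ⁻¹ᵁ U)} (hy : y ∈ A.chart U) (g : T ⟶ G) (x : T ⟶ X)
    (hx : ⊤ ≤ x.left ⁻¹ᵁ U) :
    ∃ c : Γ(T.left, ⊤), ∀ (v : T ⟶ V), v ≫ π = x → ∀ (e : ⊤ ≤ v.left ⁻¹ᵁ (π.left ⁻¹ᵁ U))
      (e' : ⊤ ≤ (lift g v ≫ discr Φ₁ Φ₂).left ⁻¹ᵁ (π.left ⁻¹ᵁ U)),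
      (lift g v ≫ discr Φ₁ Φ₂).left.appLE (π.left ⁻¹ᵁ U) ⊤ e' y = c * v.left.appLE (π.left ⁻¹ᵁ U) ⊤ e y := by
  obtain ⟨t⟩ := ‹Nonempty T.left›
  let x' := lift g x ≫ a.act
  obtain ⟨U', hxU', y', hy'⟩ := A.cover (x'.left t)
  have hx' : ⊤ ≤ x'.left ⁻¹ᵁ U' := fun s _ => Subsingleton.elim t s ▸ hxU'
  have hback : lift g⁻¹ x' ≫ a.act = x := by
    rw [← H12AlgSp.ActionGroupoid.act_mul, inv_mul_cancel, H12AlgSp.ActionGroupoid.act_one]
  obtain ⟨c₁, hc₁⟩ := exists_coeff A a Φ₁ h₁ hl₁ hy hy' g x hx hx'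
  obtain ⟨c₂, hc₂⟩ := exists_coeff A a Φ₂ h₂ hl₂ hy' hy g⁻¹ x' hx' (by rw [hback]; exact hx)
  refine ⟨c₂ * c₁, fun v hv e e' => ?_⟩
  have hw : (lift g v ≫ Φ₁.act) ≫ π = x' := by
    rw [Category.assoc, h₁, lift_whiskerLeft_assoc, hv]
  have ew : ⊤ ≤ (lift g v ≫ Φ₁.act).left ⁻¹ᵁ (π.left ⁻¹ᵁ U') := fun s hs => by
    show ((lift g v ≫ Φ₁.act) ≫ π).left s ∈ U'
    rw [hw]
    exact hx' hs
  have e2 : ⊤ ≤ (lift g⁻¹ (lift g v ≫ Φ₁.act) ≫ Φ₂.act).left ⁻¹ᵁ (π.left ⁻¹ᵁ U) := by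
    rw [← lift_discr]; exact e'
  have k2 := hc₂ (lift g v ≫ Φ₁.act) hw ew e2
  rw [hc₁ v hv e ew] at k2
  exact ((appLE_congr_pt (lift_discr Φ₁ Φ₂ g v) e' e2 y).trans k2).trans (_root_.mul_assoc _ _ _).symm

end

end Groth.Agent.H20Lin
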